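import Groth.Agent.AlgGrp.K406.UnitsGeom
import Groth.Agent.GLin.K764.UnipOrbit
import Groth.Agent.Magnet.K951.Pts
import Groth.Agent.Books.BorelOrb
import Groth.Agent.Books.AffBridge
import Mathlib.AlgebraicGeometry.QuasiAffine

/-!
# Orbits of unipotent groups on quasi-affine schemes are closed

Let `X` be a quasi-compact and quasi-separated scheme over a field `k` with an action of `Spec A`, and `x` a rational
point.  The functions `g ↦ b (g⁻¹ x)`, `b ∈ Γ(X)`, form a coideal subalgebra of `A` (`isSubcomod_range`), over which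
`A` is faithfully flat when it is unipotent; so the image of `Spec A → X → Spec Γ(X)` is closed.
-/

set_option autoImplicit false
universe u
open CategoryTheory CategoryTheory.Limits MonoidalCategory CartesianMonoidalCategory MonObj GrpObj AlgebraicGeometry
open TensorProduct hiding lift

namespace K764.QAffOrbit

open Groth.Agent Groth.Agent.Books.BorelOrb Groth.Agent.Books.AffBridge K951.Pts

variable {k : Type u} [Field k]

attribute [local instance] K951.Pts.algΓ

section alg

open HopfRep Groth.Agent.Books.CoidealFlat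

variable {A : Type u} [CommRing A] [HopfAlgebra k A]

/-- The image of the spectrum of a unipotent Hopf algebra under an algebra map with coideal range is closed. -/
theorem isClosed_range_of_coideal (hU : IsUnipotent k A) {S : Type u} [CommRing S] [Algebra k S] (ρ : S →ₐ[k] A)
    (hR : IsSubcomod (k := k) (A := A) (Subalgebra.toSubmodule ρ.range)) :
    IsClosed (Set.range (PrimeSpectrum.comap ρ.toRingHom)) := by
  have hff := K764.UnipOrbit.faithfullyFlat hU hR
  have hsurj : Function.Surjective (PrimeSpectrum.comap (algebraMap ρ.range A)) :=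
    PrimeSpectrum.comap_surjective_of_faithfullyFlat
  have hcomp : ρ.toRingHom = (algebraMap ρ.range A).comp ρ.rangeRestrict.toRingHom := rfl
  rw [hcomp, PrimeSpectrum.comap_comp, Set.range_comp, hsurj.range_eq, Set.image_univ]
  have hs : Function.Surjective ρ.rangeRestrict.toRingHom := ρ.rangeRestrict_surjective
  exact PrimeSpectrum.isClosed_range_comap_of_surjective _ _ hs

end alg

variable {A : Type u} [CommRing A] [HopfAlgebra k A] {X : Over (Spec (CommRingCat.of k))}
  (a : AlgGrp.Action (SpecOver k A) X) (x : 𝟙_ (Over (Spec (CommRingCat.of k))) ⟶ X)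

/-- The inverse orbit map `g ↦ g⁻¹ x`. -/
noncomputable def orb : SpecOver k A ⟶ X := sm a ((𝟙 (SpecOver k A))⁻¹) (toUnit _ ≫ x)

theorem orb_eq : orb a x = (𝟙 (SpecOver k A))⁻¹ ≫ a.orbitMap x := by
  rw [comp_orbitMap, orb]

theorem comp_orb {T : Over (Spec (CommRingCat.of k))} (t : T ⟶ SpecOver k A) :
    t ≫ orb a x = sm a t⁻¹ (toUnit T ≫ x) := by
  rw [orb, comp_sm, GrpObj.comp_inv, Category.comp_id, ← Category.assoc, toUnit_unique (t ≫ toUnit _) (toUnit T)]

/-- The right action `(y, g) ↦ g⁻¹ y`. -/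
noncomputable def ract : X ⊗ SpecOver k A ⟶ X := sm a ((snd X (SpecOver k A))⁻¹) (fst X (SpecOver k A))

theorem lift_ract {T : Over (Spec (CommRingCat.of k))} (y : T ⟶ X) (t : T ⟶ SpecOver k A) :
    lift y t ≫ ract a = sm a t⁻¹ y := by
  rw [ract, comp_sm, GrpObj.comp_inv, lift_snd, lift_fst]

theorem mul_orb {T : Over (Spec (CommRingCat.of k))} (s t : T ⟶ SpecOver k A) :
    (s * t) ≫ orb a x = lift (s ≫ orb a x) t ≫ ract a := by
  rw [lift_ract, comp_orb, comp_orb, _root_.mul_inv_rev, mul_sm]

/-- The functions on the group which the functions on `X` define. -/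
noncomputable def rho : Γ(X.left, ⊤) →ₐ[k] A := specPreimage k (orb a x ≫ aff X)

theorem specMap_rho : specMap k (rho a x) = orb a x ≫ aff X := specMap_specPreimage k _

open HopfRep

/-- Functions on the spectrum of an algebra, through morphisms to `X`. -/
theorem appTop_specMap {B C : Type u} [CommRing B] [Algebra k B] [CommRing C] [Algebra k C] (f : B →ₐ[k] C) (b : B) :
    (specMap k f).left.appTop.hom ((Scheme.ΓSpecIso (CommRingCat.of B)).inv.hom b) =
      (Scheme.ΓSpecIso (CommRingCat.of C)).inv.hom (f b) := by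
  have h := Scheme.ΓSpecIso_inv_naturality (CommRingCat.ofHom f.toRingHom)
  exact congr($(h).hom b).symm

theorem appTop_orb (b : Γ(X.left, ⊤)) :
    (orb a x).left.appTop.hom b = (Scheme.ΓSpecIso (CommRingCat.of A)).inv.hom (rho a x b) := by
  rw [← appTop_specMap, specMap_rho]
  have h1 : (orb a x ≫ aff X).left.appTop = (aff X).left.appTop ≫ (orb a x).left.appTop := by
    rw [Over.comp_left, Scheme.Hom.comp_appTop]
  rw [h1]
  change _ = (orb a x).left.appTop.hom ((aff X).left.appTop.hom _)
  congr 1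
  have h2 := congr($(fn_aff X) b)
  exact h2.symm

/-- The pull-back of a function on `X × G` to `Spec (A ⊗ A)`. -/
theorem pull_mem [CompactSpace X.left] [QuasiSeparatedSpace X.left]
    (z : Γ((X ⊗ SpecOver k A).left, ⊤)) :
    ∃ c ∈ LinearMap.range ((Subalgebra.toSubmodule (rho a x).range).subtype.rTensor A),
      (Scheme.ΓSpecIso (CommRingCat.of (A ⊗[k] A))).inv.hom c =
        (lift (specMap k (Algebra.TensorProduct.includeLeft : A →ₐ[k] A ⊗[k] A) ≫ orb a x)
          (specMap k (Algebra.TensorProduct.includeRight : A →ₐ[k] A ⊗[k] A))).left.appTop.hom z := by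
  have hc : CompactSpace (SpecOver k A).left := inferInstanceAs (CompactSpace (Spec (CommRingCat.of A)))
  have hq : QuasiSeparatedSpace (SpecOver k A).left :=
    inferInstanceAs (QuasiSeparatedSpace (Spec (CommRingCat.of A)))
  obtain ⟨e, he⟩ := K406.UnitsGeom.exists_tensor_equiv X (SpecOver k A)
  obtain ⟨w, rfl⟩ := e.surjective z
  induction w using TensorProduct.induction_on with
  | zero => exact ⟨0, zero_mem _, by rw [map_zero, map_zero, map_zero]; rfl⟩
  | add w₁ w₂ h₁ h₂ =>
    obtain ⟨c₁, hc₁, h₁⟩ := h₁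
    obtain ⟨c₂, hc₂, h₂⟩ := h₂
    exact ⟨c₁ + c₂, add_mem hc₁ hc₂, by rw [map_add, map_add, map_add, h₁, h₂]; rfl⟩
  | tmul b p =>
    rw [he, map_mul]
    obtain ⟨q, rfl⟩ : ∃ q : A, (Scheme.ΓSpecIso (CommRingCat.of A)).inv.hom q = p :=
      (ConcreteCategory.bijective_of_isIso (Scheme.ΓSpecIso (CommRingCat.of A)).inv).2 p
    refine ⟨rho a x b ⊗ₜ q, ⟨⟨rho a x b, b, rfl⟩ ⊗ₜ q, rfl⟩, ?_⟩
    have h1 : ∀ s : Γ(X.left, ⊤),
        (lift (specMap k (Algebra.TensorProduct.includeLeft : A →ₐ[k] A ⊗[k] A) ≫ orb a x)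
          (specMap k (Algebra.TensorProduct.includeRight : A →ₐ[k] A ⊗[k] A))).left.appTop.hom
          ((fst X (SpecOver k A)).left.appTop.hom s) =
        (specMap k (Algebra.TensorProduct.includeLeft : A →ₐ[k] A ⊗[k] A) ≫ orb a x).left.appTop.hom s := by
      intro s
      have h := congr(($(lift_fst (specMap k (Algebra.TensorProduct.includeLeft : A →ₐ[k] A ⊗[k] A) ≫ orb a x)
        (specMap k (Algebra.TensorProduct.includeRight : A →ₐ[k] A ⊗[k] A)))).left.appTop.hom s)
      rw [← h, Over.comp_left, Scheme.Hom.comp_appTop]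
      rfl
    have h2 : ∀ s : Γ((SpecOver k A).left, ⊤),
        (lift (specMap k (Algebra.TensorProduct.includeLeft : A →ₐ[k] A ⊗[k] A) ≫ orb a x)
          (specMap k (Algebra.TensorProduct.includeRight : A →ₐ[k] A ⊗[k] A))).left.appTop.hom
          ((snd X (SpecOver k A)).left.appTop.hom s) =
        (specMap k (Algebra.TensorProduct.includeRight : A →ₐ[k] A ⊗[k] A)).left.appTop.hom s := by
      intro s
      have h := congr(($(lift_snd (specMap k (Algebra.TensorProduct.includeLeft : A →ₐ[k] A ⊗[k] A) ≫ orb a x)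
        (specMap k (Algebra.TensorProduct.includeRight : A →ₐ[k] A ⊗[k] A)))).left.appTop.hom s)
      rw [← h, Over.comp_left, Scheme.Hom.comp_appTop]
      rfl
    have h3 := h1 b
    have h4 := h2 ((Scheme.ΓSpecIso (CommRingCat.of A)).inv.hom q)
    have h5 : (specMap k (Algebra.TensorProduct.includeLeft : A →ₐ[k] A ⊗[k] A) ≫ orb a x).left.appTop.hom b =
        (Scheme.ΓSpecIso (CommRingCat.of (A ⊗[k] A))).inv.hom (rho a x b ⊗ₜ 1) := by
      rw [Over.comp_left, Scheme.Hom.comp_appTop]
      change (specMap k _).left.appTop.hom ((orb a x).left.appTop.hom b) = _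
      rw [appTop_orb, appTop_specMap]
      rfl
    have h6 : (rho a x b ⊗ₜ[k] q : A ⊗[k] A) = (rho a x b ⊗ₜ 1) * (1 ⊗ₜ q) := by
      rw [Algebra.TensorProduct.tmul_mul_tmul, _root_.mul_one, _root_.one_mul]
    rw [h6, map_mul]
    congr 1
    · exact (h3.trans h5).symm
    · rw [appTop_specMap] at h4
      exact h4.symm

/-- The functions `g ↦ b (g⁻¹ x)` form a coideal subalgebra. -/
theorem isSubcomod_range [CompactSpace X.left] [QuasiSeparatedSpace X.left] :
    IsSubcomod (k := k) (A := A) (Subalgebra.toSubmodule (rho a x).range) := by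
  rintro _ ⟨b, rfl⟩
  have h1 : specMap k (Bialgebra.comulAlgHom k A) =
      specMap k (Algebra.TensorProduct.includeLeft : A →ₐ[k] A ⊗[k] A) *
        specMap k (Algebra.TensorProduct.includeRight : A →ₐ[k] A ⊗[k] A) := by
    have h := specMap_mul k (WithConv.toConv (Algebra.TensorProduct.includeLeft : A →ₐ[k] A ⊗[k] A))
      (WithConv.toConv (Algebra.TensorProduct.includeRight : A →ₐ[k] A ⊗[k] A))
    refine Eq.trans ?_ h
    congr 1
    apply AlgHom.ext
    intro c
    have h0 := AlgHom.convMul_apply (WithConv.toConv (Algebra.TensorProduct.includeLeft : A →ₐ[k] A ⊗[k] A))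
      (WithConv.toConv (Algebra.TensorProduct.includeRight : A →ₐ[k] A ⊗[k] A)) c
    have key : ∀ t : A ⊗[k] A, Algebra.TensorProduct.lift
        (Algebra.TensorProduct.includeLeft : A →ₐ[k] A ⊗[k] A)
        (Algebra.TensorProduct.includeRight : A →ₐ[k] A ⊗[k] A) (fun _ _ => Commute.all _ _) t = t := by
      intro t
      induction t with
      | zero => exact map_zero _
      | add s t hs ht => rw [map_add, hs, ht]
      | tmul p q => simp
    exact (h0.trans (key _)).symm
  obtain ⟨c, hc, hcz⟩ := pull_mem a x ((ract a).left.appTop.hom b)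
  have h2 : (specMap k (Bialgebra.comulAlgHom k A) ≫ orb a x).left.appTop.hom b =
      (Scheme.ΓSpecIso (CommRingCat.of (A ⊗[k] A))).inv.hom (CoalgebraStruct.comul (R := k) (rho a x b)) := by
    rw [Over.comp_left, Scheme.Hom.comp_appTop]
    change (specMap k _).left.appTop.hom ((orb a x).left.appTop.hom b) = _
    rw [appTop_orb, appTop_specMap]
    rfl
  have h3 : (Scheme.ΓSpecIso (CommRingCat.of (A ⊗[k] A))).inv.hom c =
      (Scheme.ΓSpecIso (CommRingCat.of (A ⊗[k] A))).inv.hom (CoalgebraStruct.comul (R := k) (rho a x b)) := by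
    rw [← h2, hcz, h1, mul_orb, Over.comp_left, Scheme.Hom.comp_appTop]
    rfl
  have h4 : c = CoalgebraStruct.comul (R := k) (rho a x b) :=
    (ConcreteCategory.bijective_of_isIso (Scheme.ΓSpecIso (CommRingCat.of (A ⊗[k] A))).inv).1 h3
  change CoalgebraStruct.comul (R := k) (rho a x b) ∈ _
  rw [← h4]
  exact hc

/-- **Rosenlicht.** Orbits of unipotent groups on quasi-affine schemes are closed. -/
theorem isClosed_range_orbitMap (hU : IsUnipotent k A) [X.left.IsQuasiAffine] :
    IsClosed (Set.range (a.orbitMap x).left.base) := by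
  have h1 := isClosed_range_of_coideal hU (rho a x) (isSubcomod_range a x)
  have h2 : (aff X).left = X.left.toSpecΓ := by
    have h : (aff X).left = X.left.toSpecΓ ≫ Spec.map (CommRingCat.ofHom (RingHom.id Γ(X.left, ⊤))) := rfl
    rw [h]
    have h' : Spec.map (CommRingCat.ofHom (RingHom.id Γ(X.left, ⊤))) = 𝟙 _ := by
      rw [CommRingCat.ofHom_id, Spec.map_id]
    rw [h']
    exact Category.comp_id _
  have hinj : Function.Injective (aff X).left.base := by
    rw [h2]
    exact X.left.toSpecΓ.isOpenEmbedding.injective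
  have h3 : Set.range (orb a x).left.base = (aff X).left.base ⁻¹' Set.range (specMap k (rho a x)).left.base := by
    rw [specMap_rho]
    ext y
    constructor
    · rintro ⟨g, rfl⟩
      exact ⟨g, rfl⟩
    · rintro ⟨g, hg⟩
      exact ⟨g, hinj hg⟩
  have h4 : Set.range (orb a x).left.base = Set.range (a.orbitMap x).left.base := by
    have h5 : (𝟙 (SpecOver k A))⁻¹ ≫ (𝟙 (SpecOver k A))⁻¹ = 𝟙 (SpecOver k A) := by
      rw [GrpObj.comp_inv, Category.comp_id, _root_.inv_inv]
    apply subset_antisymm
    · rintro _ ⟨g, rfl⟩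
      rw [orb_eq]
      exact ⟨((𝟙 (SpecOver k A))⁻¹ : SpecOver k A ⟶ SpecOver k A).left.base g, rfl⟩
    · rintro _ ⟨g, rfl⟩
      have h6 : a.orbitMap x = (𝟙 (SpecOver k A))⁻¹ ≫ orb a x := by
        rw [orb_eq, ← Category.assoc, h5, Category.id_comp]
      rw [h6]
      exact ⟨((𝟙 (SpecOver k A))⁻¹ : SpecOver k A ⟶ SpecOver k A).left.base g, rfl⟩
  rw [← h4, h3]
  exact IsClosed.preimage (aff X).left.base.hom.continuous h1

end K764.QAffOrbit
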