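import Groth.Agent.SGA3x.K13.HC.Tors
import Groth.Agent.SGA3x.K12.NormTor
import Groth.Agent.SGA3x.K14.PowEtPt
import Groth.Agent.SGA3x.K14.EtFib
import Groth.Agent.S0445
import Groth.Agent.AlgSp.K612.Reduced

/-!
# Subgroups of multiplicative type killed by an invertible integer are determined by their fibres

`S` the spectrum of a reduced Noetherian ring, `n` an integer invertible on `S`, `G` an `S`-group of finite type
(not necessarily separated), `m : M ⟶ G` and `m' : M' ⟶ G` two subgroups of multiplicative type killed by `n`.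
If they have the same fibres then they are equal.

* `isOpenImmersion_of_near`: the equalizer of two morphisms which agree near each of its points is open;
* `exists_pt`: a fibrewise isomorphism gives points;
* `near_unit`: the `n`-th power map of `G` is unramified near the unit section;
* `pow_eq_one`: the difference `m x * (m' y)⁻¹` is killed by `n`;
* `exists_hom`, `exists_iso`.
-/

set_option autoImplicit false
universe u
open CategoryTheory MonoidalCategory CartesianMonoidalCategory MonObj GrpObj AlgebraicGeometry Limits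

namespace K764.FibEq

open Groth.Agent K203.Loc K203.BC K203.FibHom

/-- The equalizer of two morphisms which agree near each of its points is open. -/
theorem isOpenImmersion_of_near {P X Y : Scheme.{u}} (i : P ⟶ X) [Mono i] (f g : X ⟶ Y)
    (hlift : ∀ (U : X.Opens), U.ι ≫ f = U.ι ≫ g → ∃ l : U.toScheme ⟶ P, l ≫ i = U.ι)
    (hnear : ∀ z : P, ∃ U : X.Opens, i z ∈ U ∧ U.ι ≫ f = U.ι ≫ g) : IsOpenImmersion i := by
  choose U hzU hU using hnear
  let T : X.Opens := ⨆ z, U z
  have hle : ∀ z, U z ≤ T := fun z => le_iSup U z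
  have hT : T.ι ≫ f = T.ι ≫ g := by
    let 𝒰 : T.toScheme.OpenCover := T.toScheme.openCoverOfIsOpenCover (fun z => T.ι ⁻¹ᵁ U z) (by
      rw [TopologicalSpace.IsOpenCover, eq_top_iff]
      rintro ⟨y, hy⟩ -
      obtain ⟨z, hz⟩ := TopologicalSpace.Opens.mem_iSup.mp hy
      exact TopologicalSpace.Opens.mem_iSup.mpr ⟨z, hz⟩)
    refine 𝒰.hom_ext _ _ fun z => ?_
    change (T.ι ⁻¹ᵁ U z).ι ≫ T.ι ≫ f = (T.ι ⁻¹ᵁ U z).ι ≫ T.ι ≫ g
    rw [← Category.assoc, ← Category.assoc, ← morphismRestrict_ι, Category.assoc, Category.assoc]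
    exact congrArg (fun a => T.ι ∣_ U z ≫ a) (hU z)
  obtain ⟨l, hl⟩ := hlift T hT
  have hr : Set.range i ⊆ Set.range T.ι := by
    rintro _ ⟨z, rfl⟩
    rw [Scheme.Opens.range_ι]
    exact hle z (hzU z)
  let i' : P ⟶ T.toScheme := IsOpenImmersion.lift T.ι i hr
  have hi' : i' ≫ T.ι = i := IsOpenImmersion.lift_fac _ _ _
  have h1 : i' ≫ l = 𝟙 _ := by
    rw [← cancel_mono i, Category.assoc, hl, hi', Category.id_comp]
  have h2 : l ≫ i' = 𝟙 _ := by
    rw [← cancel_mono T.ι, Category.assoc, hi', hl, Category.id_comp]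
  have h3 : IsIso i' := ⟨l, h1, h2⟩
  rw [← hi']
  infer_instance

section Points

variable {S : Scheme.{u}} {M M' G : Over S}

/-- The point `x` of `X` as an `S`-scheme. -/
noncomputable abbrev ptObj {X : Over S} (x : X.left) : Over S :=
  Over.mk (X.left.fromSpecResidueField x ≫ X.hom)

/-- The inclusion of the point `x`. -/
noncomputable abbrev ptHom {X : Over S} (x : X.left) : ptObj x ⟶ X :=
  Over.homMk (X.left.fromSpecResidueField x) rfl

/-- The point `x` lies over the point `X.hom x` of the base. -/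
noncomputable def ptBase {X : Over S} (x : X.left) :
    ptObj x ⟶ Over.mk (S.fromSpecResidueField (X.hom x)) :=
  Over.homMk (Spec.map (X.hom.residueFieldMap x)) (Scheme.Hom.SpecMap_residueFieldMap_fromSpecResidueField _ _)

/-- A morphism of the base changes over `G` gives points over `G`. -/
theorem exists_pt {S' : Scheme.{u}} {b : S' ⟶ S} (m : M ⟶ G) (m' : M' ⟶ G) (φ : Red.bc b M ⟶ Red.bc b M')
    (h : φ ≫ (Over.pullback b).map m' = (Over.pullback b).map m) {T : Over S} (t : T ⟶ Over.mk b) (x : T ⟶ M) :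
    ∃ y : T ⟶ M', y ≫ m' = x ≫ m := by
  refine ⟨Sga3B.BcPts.ev φ x t, ?_⟩
  rw [Sga3B.BcPts.ev, Category.assoc, ← Sga3B.BcPts.bcEquiv_symm_comp, Category.assoc, h,
    ← Sga3B.BcPts.bcEquiv_comp, Equiv.symm_apply_apply, Category.assoc, Iso.inv_hom_id_assoc]

end Points

section Main

variable {A : Type u} [CommRing A] {G : Over (Spec (CommRingCat.of A))} [GrpObj G]

/-- The `n`-th power map is unramified near the unit section. -/
theorem near_unit [IsNoetherianRing A] [LocallyOfFiniteType G.hom] {n : ℕ} (hn : IsUnit (n : A))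
    (s : Spec (CommRingCat.of A)) :
    Near @FormallyUnramified (𝟙 G ^ n : G ⟶ G).left (η[G].left s) := by
  let b := (Spec (CommRingCat.of A)).fromSpecResidueField s
  have h1 : LocallyOfFiniteType (Red.bc b G).hom := inferInstanceAs (LocallyOfFiniteType (pullback.snd G.hom b))
  obtain ⟨U, hU, hE⟩ := @K14.PowEtPt.exists_unit ((Spec (CommRingCat.of A)).residueField s) _ (Red.bc b G)
    (Red.grpObj_bc b G) h1 n (K12.NormTrait.natCast_ne_zero hn s)
  let p : ↥(𝟙_ (Over (Spec ((Spec (CommRingCat.of A)).residueField s)))).left :=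
    IsLocalRing.closedPoint ((Spec (CommRingCat.of A)).residueField s)
  have h2 : Near @FormallyUnramified (fib (𝟙 G ^ n : G ⟶ G) s) (η[Red.bc b G].left p) := by
    refine ⟨U, hU p, ?_⟩
    have h3 : fib (𝟙 G ^ n : G ⟶ G) s = ((𝟙 (Red.bc b G) : Red.bc b G ⟶ Red.bc b G) ^ n).left :=
      congrArg (fun a => a.left) (K409.TorsTorus.map_pow_one b G n)
    rw [h3]
    infer_instance
  have h4 : LocallyOfFinitePresentation (𝟙 G ^ n : G ⟶ G).left := by
    have : IsLocallyNoetherian G.left := LocallyOfFiniteType.isLocallyNoetherian G.hom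
    have : LocallyOfFiniteType ((𝟙 G ^ n : G ⟶ G).left ≫ G.hom) := by
      rw [Over.w]; infer_instance
    rw [LocallyOfFinitePresentation.iff_locallyOfFiniteType]
    exact locallyOfFiniteType_of_comp _ G.hom
  have h5 := (unramified_iff (isPullback_fib (𝟙 G ^ n : G ⟶ G) s) _).1 h2
  have h6 : pullback.fst G.hom b (η[Red.bc b G].left p) ∈ Set.range η[G].left := by
    have h7 : η[Red.bc b G].left p ∈ Set.range η[Red.bc b G].left := ⟨p, rfl⟩
    rw [K12.NormTor.range_unit_bc] at h7
    exact h7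
  obtain ⟨t, ht⟩ := h6
  have h8 : G.hom (η[G].left t) = t := by
    rw [← Scheme.Hom.comp_apply, Over.w]
    rfl
  have h9 : G.hom (pullback.fst G.hom b (η[Red.bc b G].left p)) = s := hom_fst _
  have h10 : t = s := by rw [← h8, ht, h9]
  rw [← h10, ht]
  exact h5

variable {M M' : Over (Spec (CommRingCat.of A))} [GrpObj M] [GrpObj M']

/-- The difference of the two inclusions. -/
noncomputable def dif (m : M ⟶ G) (m' : M' ⟶ G) : M ⊗ M' ⟶ G := (fst M M' ≫ m) * (snd M M' ≫ m')⁻¹

/-- The two subgroups have the same fibres. -/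
def FibIso (m : M ⟶ G) (m' : M' ⟶ G) : Prop :=
  ∀ s : Spec (CommRingCat.of A),
    ∃ e : Red.bc ((Spec (CommRingCat.of A)).fromSpecResidueField s) M ≅
        Red.bc ((Spec (CommRingCat.of A)).fromSpecResidueField s) M',
      e.hom ≫ (Over.pullback ((Spec (CommRingCat.of A)).fromSpecResidueField s)).map m' =
        (Over.pullback ((Spec (CommRingCat.of A)).fromSpecResidueField s)).map m

omit [GrpObj G] [GrpObj M] [GrpObj M'] in
theorem FibIso.symm {m : M ⟶ G} {m' : M' ⟶ G} (h : FibIso m m') : FibIso m' m := by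
  intro s
  obtain ⟨e, he⟩ := h s
  exact ⟨e.symm, by rw [← he, Iso.symm_hom, Iso.inv_hom_id_assoc]⟩

theorem pow_eq_one {m : M ⟶ G} {m' : M' ⟶ G} [IsMonHom m] [IsMonHom m'] (h : FibIso m m') {n : ℕ}
    (hn : (𝟙 M' : M' ⟶ M') ^ n = 1) [IsReduced (M ⊗ M').left] : dif m m' ^ n = 1 := by
  ext1
  refine K12.NormTor.ext_of_points _ _ fun x => ?_
  obtain ⟨e, he⟩ := h ((M ⊗ M').hom x)
  obtain ⟨y, hy⟩ := exists_pt m m' e.hom he (ptBase x) (ptHom x ≫ fst M M')
  have h1 : ptHom x ≫ dif m m' = (y * (ptHom x ≫ snd M M')⁻¹) ≫ m' := by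
    rw [dif, MonObj.comp_mul, GrpObj.comp_inv, MonObj.mul_comp, GrpObj.inv_comp, hy, Category.assoc, Category.assoc]
  have h2 : ptHom x ≫ dif m m' ^ n = ptHom x ≫ 1 := by
    have h3 : (y * (ptHom x ≫ snd M M')⁻¹) ^ n = 1 := by
      have h4 := congrArg (fun a => (y * (ptHom x ≫ snd M M')⁻¹) ≫ a) hn
      simp only [MonObj.comp_pow, Category.comp_id, MonObj.comp_one] at h4
      exact h4
    rw [MonObj.comp_pow, h1, ← MonObj.pow_comp, h3, MonObj.one_comp, MonObj.comp_one]
  exact congrArg (fun a => a.left) h2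

/-- A morphism killed by `n` is trivial near a point at which it is trivial. -/
theorem near_eq [IsNoetherianRing A] [LocallyOfFiniteType G.hom] {n : ℕ} (hn : IsUnit (n : A))
    {N : Over (Spec (CommRingCat.of A))} (δ : N ⟶ G) (hδ : δ ^ n = 1) (x : N.left)
    (hx : ptHom x ≫ δ = ptHom x ≫ 1) :
    ∃ U : N.left.Opens, x ∈ U ∧ U.ι ≫ δ.left = U.ι ≫ (1 : N ⟶ G).left := by
  obtain ⟨W, hW, hE⟩ := near_unit (G := G) hn (N.hom x)
  have h1 : (1 : N ⟶ G).left = N.hom ≫ η[G].left := by
    have h1 : (1 : N ⟶ G) = toUnit N ≫ η[G] := Hom.one_def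
    have h2 : (toUnit N).left = N.hom := (Category.comp_id _).symm.trans (Over.w (toUnit N))
    rw [h1, Over.comp_left, h2]
  have h2 : (1 : N ⟶ G).left x ∈ W := by
    rw [h1, Scheme.Hom.comp_apply]
    exact hW
  have hpt : N.left.fromSpecResidueField x ≫ δ.left = N.left.fromSpecResidueField x ≫ (1 : N ⟶ G).left :=
    congrArg (fun a => a.left) hx
  have h3 : δ.left x = (1 : N ⟶ G).left x := by
    let p : ↥(Spec (N.left.residueField x)) := IsLocalRing.closedPoint (N.left.residueField x)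
    have h4 : (N.left.fromSpecResidueField x ≫ δ.left) p = (N.left.fromSpecResidueField x ≫ (1 : N ⟶ G).left) p := by
      rw [hpt]
    have h5 : N.left.fromSpecResidueField x p = x := Scheme.fromSpecResidueField_apply x _
    rwa [Scheme.Hom.comp_apply, Scheme.Hom.comp_apply, h5] at h4
  let V : N.left.Opens := (δ.left ⁻¹ᵁ W) ⊓ ((1 : N ⟶ G).left ⁻¹ᵁ W)
  have hxV : x ∈ V := ⟨by change δ.left x ∈ W; rw [h3]; exact h2, h2⟩
  have hf : Set.range (V.ι ≫ δ.left) ⊆ Set.range W.ι := by
    rintro _ ⟨y, rfl⟩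
    rw [Scheme.Opens.range_ι, Scheme.Hom.comp_apply]
    exact y.2.1
  have hg : Set.range (V.ι ≫ (1 : N ⟶ G).left) ⊆ Set.range W.ι := by
    rintro _ ⟨y, rfl⟩
    rw [Scheme.Opens.range_ι, Scheme.Hom.comp_apply]
    exact y.2.2
  let f : V.toScheme ⟶ W.toScheme := IsOpenImmersion.lift W.ι _ hf
  let g : V.toScheme ⟶ W.toScheme := IsOpenImmersion.lift W.ι _ hg
  have hf' : f ≫ W.ι = V.ι ≫ δ.left := IsOpenImmersion.lift_fac _ _ _
  have hg' : g ≫ W.ι = V.ι ≫ (1 : N ⟶ G).left := IsOpenImmersion.lift_fac _ _ _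
  have hfg : f ≫ W.ι ≫ (𝟙 G ^ n : G ⟶ G).left = g ≫ W.ι ≫ (𝟙 G ^ n : G ⟶ G).left := by
    rw [← Category.assoc, ← Category.assoc, hf', hg', Category.assoc, Category.assoc, ← Over.comp_left,
      ← Over.comp_left, MonObj.comp_pow, MonObj.comp_pow, Category.comp_id, Category.comp_id, hδ, one_pow]
  have hlft : LocallyOfFiniteType (W.ι ≫ (𝟙 G ^ n : G ⟶ G).left) := by
    have : LocallyOfFiniteType ((𝟙 G ^ n : G ⟶ G).left ≫ G.hom) := by
      rw [Over.w]; infer_instance
    have := locallyOfFiniteType_of_comp (𝟙 G ^ n : G ⟶ G).left G.hom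
    infer_instance
  let x' : ↥V.toScheme := ⟨x, hxV⟩
  have hx' : V.toScheme.fromSpecResidueField x' ≫ V.ι =
      Spec.map (V.ι.residueFieldMap x') ≫ N.left.fromSpecResidueField (V.ι x') :=
    (Scheme.Hom.SpecMap_residueFieldMap_fromSpecResidueField _ _).symm
  have hpt' : V.toScheme.fromSpecResidueField x' ≫ f = V.toScheme.fromSpecResidueField x' ≫ g := by
    rw [← cancel_mono W.ι, Category.assoc, Category.assoc, hf', hg', ← Category.assoc, ← Category.assoc, hx',
      Category.assoc, Category.assoc]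
    exact congrArg (fun a => _ ≫ a) hpt
  obtain ⟨U, hxU, hU⟩ := S0445.aux (W.ι ≫ (𝟙 G ^ n : G ⟶ G).left) f g hfg x' hpt'
  refine ⟨V.ι ''ᵁ U, ⟨x', hxU, rfl⟩, ?_⟩
  have h5 : (V.ι ''ᵁ U).ι = (V.ι.isoImage U).inv ≫ U.ι ≫ V.ι := by
    rw [Iso.eq_inv_comp]
    simp
  rw [h5, Category.assoc, Category.assoc, Category.assoc, Category.assoc, ← hf', ← hg', ← Category.assoc U.ι,
    ← Category.assoc U.ι, hU]

omit [GrpObj M] [GrpObj M'] in
/-- Triviality of the difference at a point. -/
theorem comp_dif (m : M ⟶ G) (m' : M' ⟶ G) {X : Over (Spec (CommRingCat.of A))} (j : X ⟶ M ⊗ M') :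
    j ≫ dif m m' = 1 ↔ (j ≫ fst M M') ≫ m = (j ≫ snd M M') ≫ m' := by
  rw [dif, MonObj.comp_mul, GrpObj.comp_inv, mul_inv_eq_one, Category.assoc, Category.assoc]

/-- The equalizer is open. -/
theorem isOpenImmersion_lift [IsNoetherianRing A] [LocallyOfFiniteType G.hom] {n : ℕ} (hn : IsUnit (n : A))
    {m : M ⟶ G} {m' : M' ⟶ G} [IsMonHom m] [IsMonHom m'] (h : FibIso m m')
    (hM' : (𝟙 M' : M' ⟶ M') ^ n = 1) [IsReduced (M ⊗ M').left] :
    IsOpenImmersion (lift (pullback.fst m m') (pullback.snd m m')).left := by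
  let i : pullback m m' ⟶ M ⊗ M' := lift (pullback.fst m m') (pullback.snd m m')
  have hi1 : i ≫ fst M M' = pullback.fst m m' := lift_fst _ _
  have hi2 : i ≫ snd M M' = pullback.snd m m' := lift_snd _ _
  have hi : Mono i := by
    refine ⟨fun a b hab => ?_⟩
    apply pullback.hom_ext
    · rw [← hi1, ← Category.assoc, ← Category.assoc, hab]
    · rw [← hi2, ← Category.assoc, ← Category.assoc, hab]
  change IsOpenImmersion i.left
  refine isOpenImmersion_of_near i.left (dif m m').left (1 : M ⊗ M' ⟶ G).left ?_ ?_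
  · intro U hU
    let j : Over.mk (U.ι ≫ (M ⊗ M').hom) ⟶ M ⊗ M' := Over.homMk U.ι rfl
    have h1 : j ≫ dif m m' = 1 := by
      rw [← MonObj.comp_one j]
      ext1
      exact hU
    rw [comp_dif] at h1
    let l : Over.mk (U.ι ≫ (M ⊗ M').hom) ⟶ pullback m m' := pullback.lift (j ≫ fst M M') (j ≫ snd M M') h1
    refine ⟨l.left, ?_⟩
    have h2 : l ≫ i = j := by
      apply CartesianMonoidalCategory.hom_ext
      · rw [Category.assoc, hi1, pullback.lift_fst]
      · rw [Category.assoc, hi2, pullback.lift_snd]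
    exact congrArg (fun a => a.left) h2
  · intro z
    refine near_eq hn (dif m m') (pow_eq_one h hM') (i.left z) ?_
    let ρ := (i.left.residueFieldMap z)
    let κ : ptObj z ⟶ ptObj (i.left z) := Over.homMk (Spec.map ρ) (by
      change Spec.map ρ ≫ (M ⊗ M').left.fromSpecResidueField (i.left z) ≫ (M ⊗ M').hom = _
      rw [← Category.assoc, Scheme.Hom.SpecMap_residueFieldMap_fromSpecResidueField, Category.assoc, Over.w]
      rfl)
    have hκ : κ ≫ ptHom (i.left z) = ptHom z ≫ i :=
      Over.OverMorphism.ext (Scheme.Hom.SpecMap_residueFieldMap_fromSpecResidueField _ _)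
    have hfl : Flat (Spec.map ρ) :=
      K14.EtFib.flat_of_field (k := (M ⊗ M').left.residueField (i.left z))
        (Ω := (pullback m m').left.residueField z) (Spec.map ρ)
    have hsu : Surjective (Spec.map ρ) :=
      ⟨fun y => ⟨IsLocalRing.closedPoint ((pullback m m').left.residueField z),
        Subsingleton.elim (α := PrimeSpectrum ((M ⊗ M').left.residueField (i.left z))) _ _⟩⟩
    have hep : Epi (Spec.map ρ) := Flat.epi_of_flat_of_surjective _
    have h1 : i ≫ dif m m' = i ≫ 1 := by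
      rw [MonObj.comp_one, comp_dif, hi1, hi2, pullback.condition]
    have h2 : κ ≫ ptHom (i.left z) ≫ dif m m' = κ ≫ ptHom (i.left z) ≫ 1 := by
      rw [← Category.assoc, ← Category.assoc, hκ, Category.assoc, Category.assoc, h1]
    ext1
    rw [← cancel_epi (Spec.map ρ)]
    exact congrArg (fun a => a.left) h2

/-- The first projection is an isomorphism. -/
theorem exists_hom [IsNoetherianRing A] [IsReduced A] [LocallyOfFiniteType G.hom] {n : ℕ} (hn : IsUnit (n : A))
    {m : M ⟶ G} {m' : M' ⟶ G} [IsMonHom m] [IsMonHom m'] [Mono m'] [Etale M.hom] [Etale M'.hom] (h : FibIso m m')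
    (hM' : (𝟙 M' : M' ⟶ M') ^ n = 1) : ∃ a : M ⟶ M', a ≫ m' = m := by
  have h0 : Etale (M ⊗ M').hom := by rw [Over.tensorObj_hom]; infer_instance
  have h0' : IsReduced (M ⊗ M').left := K612.Reduced.isReduced_of_etale (M ⊗ M').hom
  have h1 := isOpenImmersion_lift hn h hM'
  have h2 : Etale (fst M M').left := by
    rw [Over.fst_left]
    infer_instance
  have h3 : (pullback.fst m m').left = (lift (pullback.fst m m') (pullback.snd m m')).left ≫ (fst M M').left := by
    rw [← Over.comp_left, lift_fst]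
  have h4 : Etale (pullback.fst m m').left := by
    rw [h3]
    infer_instance
  have h5 : Mono (pullback.fst m m').left := inferInstance
  have h6 : IsOpenImmersion (pullback.fst m m').left := IsOpenImmersion.of_flat_of_mono _
  have h7 : IsIso (pullback.fst m m').left := by
    refine isIso_of_isOpenImmersion_of_opensRange_eq_top _ ?_
    rw [eq_top_iff]
    intro y _
    obtain ⟨e, he⟩ := h (M.hom y)
    obtain ⟨y', hy'⟩ := exists_pt m m' e.hom he (ptBase y) (ptHom y)
    let q : ptObj y ⟶ pullback m m' := pullback.lift (ptHom y) y' hy'.symm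
    have hq : q ≫ pullback.fst m m' = ptHom y := pullback.lift_fst _ _ _
    let p : ↥(Spec (M.left.residueField y)) := IsLocalRing.closedPoint (M.left.residueField y)
    refine ⟨q.left p, ?_⟩
    rw [← Scheme.Hom.comp_apply, ← Over.comp_left, hq]
    exact Scheme.fromSpecResidueField_apply y _
  have h8 : IsIso (pullback.fst m m') := by
    have : IsIso ((Over.forget _).map (pullback.fst m m')) := h7
    exact isIso_of_reflects_iso _ (Over.forget _)
  refine ⟨inv (pullback.fst m m') ≫ pullback.snd m m', ?_⟩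
  rw [Category.assoc, ← pullback.condition, IsIso.inv_hom_id_assoc]

omit [GrpObj G] in
theorem isTors_id {n : ℕ} (hM : (𝟙 M : M ⟶ M) ^ n = 1) : K13.NTorsion.IsTors n (𝟙 M) where
  mon := inferInstance
  mono := inferInstance
  pts X x := by
    refine ⟨fun _ => ?_, fun _ => ⟨x, Category.comp_id _⟩⟩
    have h := congrArg (fun a => x ≫ a) hM
    simpa only [MonObj.comp_pow, Category.comp_id, MonObj.comp_one] using h

omit [GrpObj G] in
theorem etale_of_killed {n : ℕ} (hn : IsUnit (n : A)) (hM : SGA3x.IsMultTypeFT M) (hMn : (𝟙 M : M ⟶ M) ^ n = 1) :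
    Etale M.hom := by
  have h1 := K10.MTLoc.flat hM
  have h2 := K10.MTLoc.locallyOfFinitePresentation hM
  exact K13.CT.Tors.etale_of_isTors (isTors_id hMn) (K13.HC.Tors.mul_comm_of_FT hM)
    (fun s => K12.NormTrait.natCast_ne_zero hn s)

/-- **Subgroups of multiplicative type killed by `n` with the same fibres are equal**, the base being reduced
Noetherian, `n` invertible on it. -/
theorem exists_iso [IsNoetherianRing A] [IsReduced A] [LocallyOfFiniteType G.hom] [QuasiCompact G.hom]
    {n : ℕ} (hn : IsUnit (n : A)) (hM : SGA3x.IsMultTypeFT M) (hM' : SGA3x.IsMultTypeFT M')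
    (hMn : (𝟙 M : M ⟶ M) ^ n = 1) (hMn' : (𝟙 M' : M' ⟶ M') ^ n = 1) (m : M ⟶ G) (m' : M' ⟶ G)
    [IsMonHom m] [IsMonHom m'] [Mono m] [Mono m']
    (h : ∀ s : Spec (CommRingCat.of A),
      ∃ e : Red.bc ((Spec (CommRingCat.of A)).fromSpecResidueField s) M ≅
          Red.bc ((Spec (CommRingCat.of A)).fromSpecResidueField s) M',
        e.hom ≫ (Over.pullback ((Spec (CommRingCat.of A)).fromSpecResidueField s)).map m' =
          (Over.pullback ((Spec (CommRingCat.of A)).fromSpecResidueField s)).map m) :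
    ∃ e : M ≅ M', e.hom ≫ m' = m := by
  have h1 := etale_of_killed hn hM hMn
  have h2 := etale_of_killed hn hM' hMn'
  have h3 : FibIso m m' := h
  obtain ⟨a, ha⟩ := exists_hom hn h3 hMn'
  obtain ⟨b, hb⟩ := exists_hom hn h3.symm hMn
  refine ⟨⟨a, b, ?_, ?_⟩, ha⟩
  · rw [← cancel_mono m, Category.assoc, hb, ha, Category.id_comp]
  · rw [← cancel_mono m', Category.assoc, ha, hb, Category.id_comp]

end Main

end K764.FibEq
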